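import Groth.Agent.H28.ClosedSub
import Groth.Agent.MorLib.IdealFG2
import Mathlib

/-! Subfunctors of a scheme which are closed of finite presentation locally. -/

set_option autoImplicit false
set_option linter.style.haveILetI false
set_option backward.isDefEq.respectTransparency false
set_option backward.isDefEq.respectTransparency.types false

universe u

open CategoryTheory CategoryTheory.Limits AlgebraicGeometry TopologicalSpace

namespace Groth.Agent.H4BC.ClosedLocal

variable {X : Scheme.{u}} (P : ∀ {T : Scheme.{u}}, (T ⟶ X) → Prop)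

/-- The ideal `I` cuts out the condition `P` on the affine open `U`. -/
def Cuts {U : X.Opens} (hU : IsAffineOpen U) (I : Ideal Γ(X, U)) : Prop :=
  ∀ (R : CommRingCat.{u}) (q : Γ(X, U) ⟶ R), P (Spec.map q ≫ hU.fromSpec) ↔ I ≤ RingHom.ker q.hom

variable {P}

theorem cuts_unique {U : X.Opens} {hU : IsAffineOpen U} {I I' : Ideal Γ(X, U)}
    (h : Cuts P hU I) (h' : Cuts P hU I') : I = I' := by
  refine eq_of_forall_ge_iff fun J => ?_
  have := (h (CommRingCat.of (Γ(X, U) ⧸ J)) (CommRingCat.ofHom (Ideal.Quotient.mk J))).symm.trans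
    (h' (CommRingCat.of (Γ(X, U) ⧸ J)) (CommRingCat.ofHom (Ideal.Quotient.mk J)))
  simpa [Ideal.mk_ker] using this

theorem cuts_res {U V : X.Opens} {hU : IsAffineOpen U} (hV : IsAffineOpen V) (hle : V ≤ U)
    {I : Ideal Γ(X, U)} (h : Cuts P hU I) :
    Cuts P hV (I.map (X.presheaf.map (homOfLE hle).op).hom) := by
  intro R q
  rw [Ideal.map_le_iff_le_comap, ← hU.map_fromSpec hV (homOfLE hle).op, ← Spec.map_comp_assoc]
  exact h R _

theorem exists_cuts_of_cover (hcomp : ∀ {T T' : Scheme.{u}} (a : T' ⟶ T) (x : T ⟶ X), P x → P (a ≫ x))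
    (hloc : ∀ {T : Scheme.{u}} (x : T ⟶ X) (𝒱 : Scheme.OpenCover.{u} T), (∀ i, P (𝒱.f i ≫ x)) → P x)
    {U : X.Opens} (hU : IsAffineOpen U) (s : Finset Γ(X, U)) (hs : Ideal.span (s : Set Γ(X, U)) = ⊤)
    (h : ∀ f ∈ s, ∃ J, Cuts P (hU.basicOpen f) J) : ∃ I, Cuts P hU I := by
  classical
  choose J hJ using fun f : s => h f.1 f.2
  let res : ∀ f : s, Γ(X, U) →+* Γ(X, X.basicOpen f.1) := fun f =>
    (X.presheaf.map (homOfLE (X.basicOpen_le f.1)).op).hom
  refine ⟨⨅ f : s, (J f).comap (res f), fun R q => ?_⟩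
  let qf : ∀ f : s, Γ(X, X.basicOpen f.1) ⟶ CommRingCat.of (Localization.Away (q.hom f.1)) := fun f =>
    letI := hU.isLocalization_basicOpen f.1
    CommRingCat.ofHom (IsLocalization.Away.map Γ(X, X.basicOpen f.1) (Localization.Away (q.hom f.1)) q.hom f.1)
  have hqf : ∀ (f : s) (a : Γ(X, U)), (qf f).hom (res f a) = algebraMap R (Localization.Away (q.hom f.1)) (q.hom a) := by
    intro f a
    letI := hU.isLocalization_basicOpen f.1
    have hy : Submonoid.powers f.1 ≤ (Submonoid.powers (q.hom f.1)).comap q.hom := by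
      rintro _ ⟨n, rfl⟩
      exact ⟨n, (map_pow q.hom f.1 n).symm⟩
    exact IsLocalization.map_eq (M := Submonoid.powers f.1) (S := Γ(X, X.basicOpen f.1))
      (T := Submonoid.powers (q.hom f.1)) (Q := Localization.Away (q.hom f.1)) hy a
  have hcompat : ∀ f : s, Spec.map (CommRingCat.ofHom (algebraMap R (Localization.Away (q.hom f.1)))) ≫
      Spec.map q ≫ hU.fromSpec = Spec.map (qf f) ≫ (hU.basicOpen f.1).fromSpec := by
    intro f
    rw [← hU.map_fromSpec (hU.basicOpen f.1) (homOfLE (X.basicOpen_le f.1)).op, ← Spec.map_comp_assoc,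
      ← Spec.map_comp_assoc]
    congr 2
    exact CommRingCat.hom_ext (RingHom.ext fun a => (hqf f a).symm)
  have hspan : Ideal.span (Set.range fun f : s => q.hom f.1) = ⊤ := by
    have := congrArg (Ideal.map q.hom) hs
    rw [Ideal.map_top, Ideal.map_span] at this
    rw [← this]
    congr 1
    ext y
    simp
  have hiff : P (Spec.map q ≫ hU.fromSpec) ↔ ∀ f, J f ≤ RingHom.ker (qf f).hom := by
    refine ⟨fun hp f => (hJ f _ (qf f)).1 ((hcompat f) ▸ hcomp _ _ hp), fun hp => ?_⟩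
    refine hloc _ (Scheme.affineOpenCoverOfSpanRangeEqTop (fun f : s => q.hom f.1) hspan).openCover fun f => ?_
    have h2 := (hJ f _ (qf f)).2 (hp f)
    rw [← hcompat f] at h2
    exact h2
  refine hiff.trans ?_
  refine ⟨fun hp a ha => ?_, fun hp f c hc => ?_⟩
  · have h0 : ∀ f : s, algebraMap R (Localization.Away (q.hom f.1)) (q.hom a) = 0 := fun f => by
      rw [← hqf f a]
      exact hp f ((Ideal.mem_iInf.1 ha) f)
    have h1 : ∀ f : s, ∃ n : ℕ, q.hom f.1 ^ n * q.hom a = 0 := fun f => by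
      obtain ⟨⟨_, n, rfl⟩, hn⟩ := (IsLocalization.map_eq_zero_iff (Submonoid.powers (q.hom f.1))
        (Localization.Away (q.hom f.1)) (q.hom a)).1 (h0 f)
      exact ⟨n, hn⟩
    choose n hn using h1
    show q.hom a = 0
    let 𝔞 : Ideal R := LinearMap.ker (LinearMap.toSpanSingleton R R (q.hom a))
    have htop : 𝔞 = ⊤ := by
      rw [eq_top_iff, ← Ideal.span_pow_eq_top _ hspan (Finset.univ.sup n)]
      refine Ideal.span_le.2 ?_
      rintro _ ⟨_, ⟨f, rfl⟩, rfl⟩
      obtain ⟨k, hk⟩ := Nat.exists_eq_add_of_le (Finset.le_sup (f := n) (Finset.mem_univ f))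
      show q.hom f.1 ^ (Finset.univ.sup n) * q.hom a = 0
      rw [hk, pow_add, mul_comm (q.hom f.1 ^ n f), mul_assoc, hn f, mul_zero]
    have := (Ideal.eq_top_iff_one _).1 htop
    simpa [𝔞] using this
  · letI := hU.isLocalization_basicOpen f.1
    obtain ⟨a, ⟨_, n, rfl⟩, rfl⟩ := IsLocalization.exists_mk'_eq (Submonoid.powers f.1) c
    have hres : res f a ∈ J f := by
      have := Ideal.mul_mem_right (algebraMap Γ(X, U) Γ(X, X.basicOpen f.1) (f.1 ^ n)) _ hc
      rwa [mul_comm, IsLocalization.mk'_spec' Γ(X, X.basicOpen f.1) a (⟨f.1 ^ n, n, rfl⟩ : Submonoid.powers f.1)] at this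
    -- the image of `a` lies in the other ideals up to a power of `f`
    have hother : ∀ g : s, ∃ m : ℕ, res g (f.1 ^ m * a) ∈ J g := by
      intro g
      let V := X.basicOpen (res g f.1)
      have hVg : V ≤ X.basicOpen g.1 := X.basicOpen_le _
      have hVf : V ≤ X.basicOpen f.1 := by
        show X.basicOpen (X.presheaf.map (homOfLE (X.basicOpen_le g.1)).op f.1) ≤ _
        rw [Scheme.basicOpen_res]
        exact inf_le_right
      have hV : IsAffineOpen V := (hU.basicOpen g.1).basicOpen _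
      have heq := cuts_unique (cuts_res hV hVf (hJ f)) (cuts_res hV hVg (hJ g))
      have hm := Ideal.mem_map_of_mem (X.presheaf.map (homOfLE hVf).op).hom hres
      rw [heq] at hm
      have hcomm : (X.presheaf.map (homOfLE hVf).op).hom (res f a) = (X.presheaf.map (homOfLE hVg).op).hom (res g a) := by
        simp only [res, ← ConcreteCategory.comp_apply, ← Functor.map_comp, ← RingHom.comp_apply,
          ← CommRingCat.hom_comp]
        rfl
      rw [hcomm] at hm
      letI := (hU.basicOpen g.1).isLocalization_basicOpen (res g f.1)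
      obtain ⟨⟨⟨j, hj⟩, ⟨_, m, rfl⟩⟩, hjm⟩ :=
        (IsLocalization.mem_map_algebraMap_iff (Submonoid.powers (res g f.1)) Γ(X, V)).1 hm
      change algebraMap Γ(X, X.basicOpen g.1) Γ(X, V) (res g a) * algebraMap Γ(X, X.basicOpen g.1) Γ(X, V) (res g f.1 ^ m) =
        algebraMap Γ(X, X.basicOpen g.1) Γ(X, V) j at hjm
      rw [← map_mul] at hjm
      obtain ⟨⟨_, k, rfl⟩, hk⟩ := (IsLocalization.eq_iff_exists (Submonoid.powers (res g f.1)) Γ(X, V)).1 hjm
      refine ⟨k + m, ?_⟩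
      simp only [] at hk
      rw [map_mul, map_pow, pow_add, mul_assoc, mul_comm (res g f.1 ^ m), hk]
      exact Ideal.mul_mem_left _ _ hj
    choose m hm using hother
    let M := Finset.univ.sup m
    have hI : f.1 ^ M * a ∈ ⨅ g : s, (J g).comap (res g) := Ideal.mem_iInf.2 fun g => by
      obtain ⟨k, hk⟩ := Nat.exists_eq_add_of_le (Finset.le_sup (f := m) (Finset.mem_univ g))
      show res g (f.1 ^ M * a) ∈ J g
      rw [show f.1 ^ M * a = f.1 ^ k * (f.1 ^ m g * a) by rw [← mul_assoc, ← pow_add, add_comm, ← hk], map_mul]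
      exact Ideal.mul_mem_left _ _ (hm g)
    have hu : IsUnit ((qf f).hom (algebraMap Γ(X, U) Γ(X, X.basicOpen f.1) f.1)) :=
      (IsLocalization.Away.algebraMap_isUnit f.1).map _
    have hz : (qf f).hom (res f (f.1 ^ M * a)) = 0 := by
      rw [hqf f, show q.hom (f.1 ^ M * a) = 0 from hp hI, map_zero]
    rw [map_mul, map_mul, map_pow, map_pow] at hz
    have ha0 : (qf f).hom (res f a) = 0 := (hu.pow M).mul_right_eq_zero.1 hz
    show (qf f).hom (IsLocalization.mk' _ a _) = 0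
    rw [IsLocalization.mk'_eq_mul_mk'_one, map_mul]
    rw [show (qf f).hom (algebraMap Γ(X, U) Γ(X, X.basicOpen f.1) a) = 0 from ha0, zero_mul]

/-- A condition cut out by finitely generated ideals near every point is a closed subscheme of
finite presentation. -/
theorem exists_closed (P : ∀ {T : Scheme.{u}}, (T ⟶ X) → Prop)
    (hcomp : ∀ {T T' : Scheme.{u}} (a : T' ⟶ T) (x : T ⟶ X), P x → P (a ≫ x))
    (hloc : ∀ {T : Scheme.{u}} (x : T ⟶ X) (𝒱 : Scheme.OpenCover.{u} T), (∀ i, P (𝒱.f i ≫ x)) → P x)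
    (hkey : ∀ x : X, ∃ (W : X.Opens) (hW : IsAffineOpen W) (I : Ideal Γ(X, W)), x ∈ W ∧ Cuts P hW I) :
    ∃ (Z : Scheme.{u}) (i : Z ⟶ X), IsClosedImmersion i ∧
      (∀ {T : Scheme.{u}} (x : T ⟶ X), P x ↔ ∃ z, z ≫ i = x) ∧
      ((∀ x : X, ∃ (W : X.Opens) (hW : IsAffineOpen W) (I : Ideal Γ(X, W)), x ∈ W ∧ I.FG ∧ Cuts P hW I) →
        LocallyOfFinitePresentation i) := by
  classical
  have hall : ∀ U : X.affineOpens, ∃ I : Ideal Γ(X, U.1), Cuts P U.2 I := by
    intro U
    choose W hW J hxW hJ using hkey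
    choose f g hfg hxf using fun x : (U.1 : Set X) =>
      exists_basicOpen_le_affine_inter U.2 (hW x.1) x.1 ⟨x.2, hxW x.1⟩
    have hspan : Ideal.span (Set.range f) = ⊤ := by
      rw [← U.2.iSup_basicOpen_eq_self_iff]
      refine le_antisymm (iSup_le fun r => X.basicOpen_le _) fun x hx => ?_
      exact Opens.mem_iSup.2 ⟨⟨f ⟨x, hx⟩, ⟨⟨x, hx⟩, rfl⟩⟩, hxf ⟨x, hx⟩⟩
    obtain ⟨s, hs, hs'⟩ := Submodule.mem_span_finite_of_mem_span ((Ideal.eq_top_iff_one _).1 hspan)
    refine exists_cuts_of_cover hcomp hloc U.2 s ((Ideal.eq_top_iff_one _).2 hs') fun r hr => ?_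
    obtain ⟨x, rfl⟩ := hs hr
    exact ⟨_, cuts_res (U.2.basicOpen (f x)) ((hfg x).le.trans (X.basicOpen_le _)) (hJ x.1)⟩
  choose I hI using hall
  have hmap : ∀ (U : X.affineOpens) (f : Γ(X, U.1)),
      (I U).map (X.presheaf.map (homOfLE <| X.basicOpen_le f).op).hom = I (X.affineBasicOpen f) :=
    fun U f => cuts_unique (cuts_res (U.2.basicOpen f) (X.basicOpen_le f) (hI U)) (hI (X.affineBasicOpen f))
  let J : X.IdealSheafData := { ideal := I, map_ideal_basicOpen := hmap }
  have haff : ∀ (T : Scheme.{u}) [IsAffine T] (x : T ⟶ X) (U : X.affineOpens) (e : ⊤ ≤ x ⁻¹ᵁ U.1),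
      P x ↔ I U ≤ RingHom.ker (x.appLE U.1 ⊤ e).hom := by
    intro T _ x U e
    refine Iff.trans ?_ (hI U _ _)
    have he := H28.ClosedSub.eq_comp_fromSpec x U.2 e
    constructor <;> intro h
    · have h2 := hcomp T.isoSpec.inv x h
      rw [he, Iso.inv_hom_id_assoc] at h2
      exact h2
    · rw [he]
      exact hcomp _ _ h
  have hι : P J.subschemeι := by
    refine hloc _ J.subschemeCover.openCover fun U => ?_
    haveI : IsAffine (J.subschemeCover.openCover.X U) := inferInstanceAs (IsAffine (Spec _))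
    have hU : J.subschemeι ⁻¹ᵁ U.1 = Scheme.Hom.opensRange (J.subschemeCover.openCover.f U) :=
      (J.opensRange_subschemeCover_map U).symm
    refine (haff _ _ U ?_).mpr ?_
    · intro z _
      show J.subschemeι _ ∈ U.1
      exact hU.ge ⟨z, rfl⟩
    · intro r hr
      have h : J.subschemeι.app U.1 r = 0 :=
        ((J.ker_subschemeι_app U).ge hr : r ∈ RingHom.ker _)
      rw [RingHom.mem_ker, Scheme.Hom.comp_appLE]
      rw [CommRingCat.hom_comp, RingHom.comp_apply, h, map_zero]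
  refine ⟨J.subscheme, J.subschemeι, inferInstance, fun {T} x => ⟨fun h => ?_, ?_⟩, fun hfg => ?_⟩
  · have hle : J ≤ x.ker := by
      show J ≤ Scheme.IdealSheafData.ofIdeals _
      rw [Scheme.IdealSheafData.le_ofIdeals_iff]
      intro U r hr
      rw [RingHom.mem_ker]
      choose V hV using fun z : (x ⁻¹ᵁ U.1 : T.Opens) =>
        Opens.isBasis_iff_nbhd.mp T.isBasis_affineOpens (U := x ⁻¹ᵁ U.1) z.2
      refine T.sheaf.eq_of_locally_eq' V (x ⁻¹ᵁ U.1) (fun z => homOfLE (hV z).2.2)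
        (fun y hy => Opens.mem_iSup.mpr ⟨⟨y, hy⟩, (hV ⟨y, hy⟩).2.1⟩) _ _ fun z => ?_
      haveI : IsAffine (Spec Γ(T, V z)) := inferInstance
      have e : (⊤ : (Spec Γ(T, V z)).Opens) ≤ ((hV z).1.fromSpec ≫ x) ⁻¹ᵁ U.1 := by
        intro y _
        exact (hV z).2.2 ((hV z).1.range_fromSpec.le ⟨y, rfl⟩)
      have h1 := (haff _ ((hV z).1.fromSpec ≫ x) U e).mp (hcomp _ _ h) hr
      have h2 : ((hV z).1.fromSpec ≫ x).appLE U.1 ⊤ e =
          x.appLE U.1 (V z) (hV z).2.2 ≫ (Scheme.ΓSpecIso Γ(T, V z)).inv := by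
        rw [← Scheme.Hom.appLE_comp_appLE (hV z).1.fromSpec x U.1 (V z) ⊤ (hV z).2.2
          (fun y _ => (hV z).1.range_fromSpec.le ⟨y, rfl⟩)]
        congr 1
        rw [Scheme.Hom.appLE, (hV z).1.fromSpec_app_self, Category.assoc, ← Functor.map_comp]
        exact (congrArg _ (CategoryTheory.Functor.map_id _ _)).trans (Category.comp_id _)
      rw [RingHom.mem_ker, h2] at h1
      refine Eq.trans (?_ : x.appLE U.1 (V z) (hV z).2.2 r = 0) (map_zero _).symm
      exact (ConcreteCategory.bijective_of_isIso (Scheme.ΓSpecIso Γ(T, V z)).inv).1 (h1.trans (map_zero _).symm)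
    exact ⟨x.toImage ≫ Scheme.IdealSheafData.inclusion hle, by
      rw [Category.assoc, Scheme.IdealSheafData.inclusion_subschemeι]
      exact x.toImage_imageι⟩
  · rintro ⟨z, rfl⟩
    exact hcomp z _ hι
  · refine MorLib.IdealFG.lfp_subschemeι fun U => MorLib.IdealFG.fg_of_cover _ U fun x hx => ?_
    obtain ⟨W, hW, I', hxW, hfg', hc⟩ := hfg x
    refine ⟨⟨W, hW⟩, hxW, ?_⟩
    show (I ⟨W, hW⟩).FG
    rw [cuts_unique (hI ⟨W, hW⟩) hc]
    exact hfg'

end Groth.Agent.H4BC.ClosedLocal
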