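import Groth.Agent.H4BC.Content.Taylor
import Groth.Agent.H4BC.GenPts
import Mathlib

/-! The content ideal of an element of a smooth algebra with irreducible fibres. -/

set_option autoImplicit false
set_option linter.style.haveILetI false

universe u

open MvPolynomial
open scoped TensorProduct

namespace Groth.Agent.H4BC.Content

attribute [local instance] MvPolynomial.algebraMvPolynomial

/-- Taylor expansions are natural. -/
theorem isExp_natural {d : ℕ} {R₀ C₀ R C : Type u} [CommRing R₀] [CommRing C₀] [CommRing R] [CommRing C]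
    [Algebra R₀ C₀] [Algebra R C] [Algebra (MvPolynomial (Fin d) R₀) C₀] [Algebra (MvPolynomial (Fin d) R) C]
    [IsScalarTower R₀ (MvPolynomial (Fin d) R₀) C₀] [IsScalarTower R (MvPolynomial (Fin d) R) C]
    [Algebra.FormallyUnramified (MvPolynomial (Fin d) R₀) C₀]
    (σ₀ : C₀ →ₐ[R₀] R₀) (σ : C →ₐ[R] R) (ι : R₀ →+* R) (π : C₀ →+* C)
    (hπ : ∀ q, π (algebraMap (MvPolynomial (Fin d) R₀) C₀ q) = algebraMap _ C (MvPolynomial.map ι q))
    (hσ : ∀ c, σ (π c) = ι (σ₀ c)) {n : ℕ}
    {T₀ : C₀ →ₐ[MvPolynomial (Fin d) R₀] Pn d R₀ n} (h₀ : IsExp σ₀ n T₀)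
    {T : C →ₐ[MvPolynomial (Fin d) R] Pn d R n} (h : IsExp σ n T) (c : C₀) :
    T (π c) = Ideal.quotientMap _ (MvPolynomial.map ι) (pow_le_comap_map ι n) (T₀ c) := by
  let ρ := Ideal.quotientMap _ (MvPolynomial.map ι) (pow_le_comap_map (d := d) ι n)
  letI : Algebra (MvPolynomial (Fin d) R₀) (Pn d R n) :=
    ((Ideal.Quotient.mk ((idealOfVars (Fin d) R) ^ n)).comp (MvPolynomial.map ι)).toAlgebra
  let g₁ : C₀ →ₐ[MvPolynomial (Fin d) R₀] Pn d R n :=
    { ρ.comp T₀.toRingHom with
      commutes' := fun q => by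
        show ρ (T₀ (algebraMap _ C₀ q)) = Ideal.Quotient.mk _ (MvPolynomial.map ι q)
        rw [AlgHom.commutes]
        rfl }
  let g₂ : C₀ →ₐ[MvPolynomial (Fin d) R₀] Pn d R n :=
    { T.toRingHom.comp π with
      commutes' := fun q => by
        show T (π (algebraMap _ C₀ q)) = Ideal.Quotient.mk _ (MvPolynomial.map ι q)
        rw [hπ, AlgHom.commutes]
        rfl }
  have hg : g₁ = g₂ := by
    refine @Algebra.FormallyUnramified.ext (MvPolynomial (Fin d) R₀) _ C₀ _ _ (Pn d R n) _ _
      ((idealOfVars (Fin d) R).map (Ideal.Quotient.mk ((idealOfVars (Fin d) R) ^ n))) inferInstance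
      (isNilpotent_map (d := d) (R := R) n) g₁ g₂ fun c => ?_
    show Ideal.Quotient.mk ((idealOfVars (Fin d) R).map (Ideal.Quotient.mk ((idealOfVars (Fin d) R) ^ n)))
      (ρ (T₀ c)) = Ideal.Quotient.mk _ (T (π c))
    refine Eq.trans ((Ideal.Quotient.mk_eq_mk_iff_sub_mem (ρ (T₀ c))
        (Ideal.Quotient.mk _ (MvPolynomial.C (σ (π c))))).2 ?_)
      ((Ideal.Quotient.mk_eq_mk_iff_sub_mem _ _).2 (h (π c))).symm
    have h1 := Ideal.mem_map_of_mem ρ (h₀ c)
    rw [map_sub, Ideal.map_map] at h1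
    have h2 : ρ (Ideal.Quotient.mk _ (MvPolynomial.C (σ₀ c))) = Ideal.Quotient.mk _ (MvPolynomial.C (σ (π c))) := by
      show Ideal.Quotient.mk _ (MvPolynomial.map ι (MvPolynomial.C (σ₀ c))) = _
      rw [map_C, hσ]
    rw [h2] at h1
    refine (Ideal.map_le_iff_le_comap.2 fun q hq => ?_) h1
    show Ideal.Quotient.mk ((idealOfVars (Fin d) R) ^ n) (MvPolynomial.map ι q) ∈
      (idealOfVars (Fin d) R).map (Ideal.Quotient.mk ((idealOfVars (Fin d) R) ^ n))
    refine Ideal.mem_map_of_mem _ ?_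
    have := pow_le_comap_map (d := d) ι 1 (by rwa [pow_one])
    rwa [Ideal.mem_comap, pow_one] at this
  exact (AlgHom.congr_fun hg c).symm

variable {A B : Type u} [CommRing A] [CommRing B] [Algebra A B] {d : ℕ}
  [Algebra (MvPolynomial (Fin d) A) B] [IsScalarTower A (MvPolynomial (Fin d) A) B]
  [Algebra.Etale (MvPolynomial (Fin d) A) B]

/-- The coordinates. -/
noncomputable def crd (i : Fin d) : B := algebraMap (MvPolynomial (Fin d) A) B (X i)

section point

variable {R : Type u} [CommRing R] [Algebra A R] (φ : B →ₐ[A] R)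

/-- The translated coordinates make `R ⊗ B` an algebra over polynomials. -/
noncomputable def coordHom : MvPolynomial (Fin d) R →+* R ⊗[A] B :=
  (MvPolynomial.aeval (R := R) fun i =>
    (1 : R) ⊗ₜ[A] crd (A := A) (B := B) i - algebraMap R (R ⊗[A] B) (φ (crd (A := A) (B := B) i))).toRingHom

theorem etale_coordHom : (coordHom (d := d) φ).Etale := by
  let PA := MvPolynomial (Fin d) A
  let PR := MvPolynomial (Fin d) R
  let γ : MvPolynomial (Fin d) R →ₐ[R] R ⊗[A] B := MvPolynomial.aeval fun i => (1 : R) ⊗ₜ[A] crd (A := A) (B := B) i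
  let τ : MvPolynomial (Fin d) R →ₐ[R] MvPolynomial (Fin d) R := MvPolynomial.aeval fun i => X i - MvPolynomial.C (φ (crd (A := A) (B := B) i))
  let τ' : MvPolynomial (Fin d) R →ₐ[R] MvPolynomial (Fin d) R := MvPolynomial.aeval fun i => X i + MvPolynomial.C (φ (crd (A := A) (B := B) i))
  let e : MvPolynomial (Fin d) R ≃ₐ[R] MvPolynomial (Fin d) R := AlgEquiv.ofAlgHom τ τ'
    (MvPolynomial.algHom_ext fun i => by simp [τ, τ'])
    (MvPolynomial.algHom_ext fun i => by simp [τ, τ'])
  have hc : coordHom (d := d) φ = γ.toRingHom.comp e.toRingEquiv.toRingHom := by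
    have : (MvPolynomial.aeval (R := R) fun i => (1 : R) ⊗ₜ[A] crd (A := A) (B := B) i -
        algebraMap R (R ⊗[A] B) (φ (crd (A := A) (B := B) i))) = γ.comp e.toAlgHom :=
      MvPolynomial.algHom_ext fun i => by simp [γ, e, τ]
    exact congrArg AlgHom.toRingHom this
  rw [hc]
  refine RingHom.Etale.stableUnderComposition _ _ (RingHom.Etale.of_bijective e.bijective) ?_
  letI : Algebra PR (R ⊗[A] B) := γ.toRingHom.toAlgebra
  letI : Algebra PA (R ⊗[A] B) :=
    ((Algebra.TensorProduct.includeRight (R := A) (A := R) (B := B)).toRingHom.comp (algebraMap PA B)).toAlgebra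
  letI : Algebra B (R ⊗[A] B) := Algebra.TensorProduct.rightAlgebra
  haveI : IsScalarTower R PR (R ⊗[A] B) := IsScalarTower.of_algebraMap_eq fun r => by
    show _ = γ (MvPolynomial.C r)
    simp [γ]
  haveI : IsScalarTower PA B (R ⊗[A] B) := IsScalarTower.of_algebraMap_eq fun _ => rfl
  haveI : IsScalarTower A B (R ⊗[A] B) := IsScalarTower.of_algebraMap_eq fun a => by
    show algebraMap A (R ⊗[A] B) a = (1 : R) ⊗ₜ[A] algebraMap A B a
    rw [← Algebra.TensorProduct.includeRight_apply, AlgHom.commutes]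
  haveI : IsScalarTower A PA (R ⊗[A] B) := IsScalarTower.of_algebraMap_eq fun a => by
    show _ = (1 : R) ⊗ₜ[A] algebraMap PA B (algebraMap A PA a)
    rw [← IsScalarTower.algebraMap_apply, ← Algebra.TensorProduct.includeRight_apply, AlgHom.commutes]
  haveI : IsScalarTower A R (R ⊗[A] B) := inferInstance
  haveI : IsScalarTower PA PR (R ⊗[A] B) := by
    refine IsScalarTower.of_algebraMap_eq' ?_
    refine MvPolynomial.ringHom_ext (fun a => ?_) fun i => ?_
    · show (1 : R) ⊗ₜ[A] algebraMap PA B (MvPolynomial.C a) = γ (MvPolynomial.map (algebraMap A R) (MvPolynomial.C a))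
      rw [map_C, show γ (MvPolynomial.C (algebraMap A R a)) = algebraMap R (R ⊗[A] B) (algebraMap A R a) from
        MvPolynomial.aeval_C _ _, show MvPolynomial.C a = algebraMap A PA a from rfl,
        ← IsScalarTower.algebraMap_apply, ← IsScalarTower.algebraMap_apply,
        ← Algebra.TensorProduct.includeRight_apply, AlgHom.commutes]
    · show (1 : R) ⊗ₜ[A] algebraMap PA B (X i) = γ (MvPolynomial.map (algebraMap A R) (X i))
      rw [map_X, show γ (X i) = _ from MvPolynomial.aeval_X _ i]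
      rfl
  haveI : IsScalarTower A PR (R ⊗[A] B) := IsScalarTower.to₁₃₄ A PA PR (R ⊗[A] B)
  haveI h0 : Algebra.IsPushout A B R (R ⊗[A] B) := (TensorProduct.isPushout (R := A) (S := R) (T := B)).symm
  haveI h1 : Algebra.IsPushout PA B PR (R ⊗[A] B) :=
    (Algebra.IsPushout.comp_iff A PA R PR (T := B) (T' := R ⊗[A] B)).1 h0
  haveI h2 : Algebra.IsPushout PA PR B (R ⊗[A] B) := h1.symm
  have : Algebra.Etale PR (R ⊗[A] B) :=
    Algebra.Etale.of_equiv (Algebra.IsPushout.equiv PA PR B (R ⊗[A] B))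
  exact RingHom.etale_algebraMap.2 this

/-- The section given by the point. -/
noncomputable def sec : R ⊗[A] B →ₐ[R] R :=
  Algebra.TensorProduct.lift (Algebra.ofId R R) φ (fun _ _ => Commute.all _ _)

theorem sec_tmul (r : R) (b : B) : sec φ (r ⊗ₜ[A] b) = r * φ b := by simp [sec]

theorem sec_coord (i : Fin d) : sec φ (coordHom (d := d) φ (X i)) = 0 := by
  simp [coordHom, sec_tmul, crd, Algebra.TensorProduct.algebraMap_apply]

theorem coordHom_C (r : R) : coordHom (d := d) φ (MvPolynomial.C r) = algebraMap R (R ⊗[A] B) r := by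
  simp [coordHom]

end point

variable [Algebra.Smooth A B] [Module.FaithfullyFlat A B]
  (hirr : ∀ (K : Type u) [Field K] [Algebra A K], PreirreducibleSpace (PrimeSpectrum (K ⊗[A] B)))

include hirr in
/-- Each fibre of `R → R ⊗ B` has a generic point. -/
theorem exists_generic_prime (R : Type u) [CommRing R] [Algebra A R] (p : Ideal R) [p.IsPrime]
    (q : Ideal (R ⊗[A] B)) [q.IsPrime] (hq : q.comap (algebraMap R (R ⊗[A] B)) = p) :
    ∃ η : Ideal (R ⊗[A] B), η.IsPrime ∧ η.comap (algebraMap R (R ⊗[A] B)) = p ∧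
      ∀ q' : Ideal (R ⊗[A] B), q'.IsPrime → q'.comap (algebraMap R (R ⊗[A] B)) = p → η ≤ q' := by
  let e := PrimeSpectrum.primesOverOrderIsoFiber R (R ⊗[A] B) p
  let c : p.Fiber (R ⊗[A] B) ≃+* p.ResidueField ⊗[A] B :=
    (Algebra.TensorProduct.cancelBaseChange A R p.ResidueField p.ResidueField B).toRingEquiv
  haveI := hirr p.ResidueField
  haveI : PreirreducibleSpace (PrimeSpectrum (p.Fiber (R ⊗[A] B))) :=
    ⟨by
      let hh := PrimeSpectrum.homeomorphOfRingEquiv c.symm
      have h := (PreirreducibleSpace.isPreirreducible_univ (X := PrimeSpectrum (p.ResidueField ⊗[A] B))).image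
        hh hh.continuous.continuousOn
      rwa [Set.image_univ, hh.surjective.range_eq] at h⟩
  have hqm : q ∈ p.primesOver (R ⊗[A] B) := ⟨inferInstance, ⟨hq.symm⟩⟩
  haveI : Nonempty (PrimeSpectrum (p.Fiber (R ⊗[A] B))) := ⟨e ⟨q, hqm⟩⟩
  haveI : IrreducibleSpace (PrimeSpectrum (p.Fiber (R ⊗[A] B))) := { toNonempty := inferInstance }
  let g := e.symm (genericPoint (PrimeSpectrum (p.Fiber (R ⊗[A] B))))
  refine ⟨g.1, g.2.1, g.2.2.over.symm, fun q' hq' hc => ?_⟩
  have hm : q' ∈ p.primesOver (R ⊗[A] B) := ⟨hq', ⟨hc.symm⟩⟩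
  have h := e.symm.monotone ((PrimeSpectrum.le_iff_specializes _ _).2 (genericPoint_specializes (e ⟨q', hm⟩)))
  rw [e.symm_apply_apply] at h
  exact h

include hirr in
/-- An element with vanishing expansions along a point is zero. -/
theorem eq_zero_of_exp {R : Type u} [CommRing R] [Algebra A R] (φ : B →ₐ[A] R)
    [Algebra (MvPolynomial (Fin d) R) (R ⊗[A] B)]
    (halg : algebraMap (MvPolynomial (Fin d) R) (R ⊗[A] B) = coordHom (d := d) φ) {z : R ⊗[A] B}
    (hz : ∀ n, ∀ T : R ⊗[A] B →ₐ[MvPolynomial (Fin d) R] Pn d R n, IsExp (sec φ) n T → T z = 0) : z = 0 := by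
  haveI : IsScalarTower R (MvPolynomial (Fin d) R) (R ⊗[A] B) := IsScalarTower.of_algebraMap_eq fun r => by
    rw [halg]; exact (coordHom_C φ r).symm
  haveI : Algebra.Etale (MvPolynomial (Fin d) R) (R ⊗[A] B) :=
    RingHom.etale_algebraMap.1 (halg ▸ etale_coordHom φ)
  haveI : Algebra.Smooth R (R ⊗[A] B) := inferInstance
  have hkill : ∀ q : Ideal (R ⊗[A] B), q.IsPrime → ∃ s ∉ q, s * z = 0 := by
    intro q hq
    let p := q.comap (algebraMap R (R ⊗[A] B))
    haveI : p.IsPrime := Ideal.comap_isPrime _ _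
    obtain ⟨η, hη, hηp, hmin⟩ := exists_generic_prime hirr R p q rfl
    obtain ⟨u, hu, huz⟩ := exists_mul_eq_zero (d := d) (sec φ)
      (fun i => by rw [halg]; exact sec_coord φ i) hz p
    have hQ : (p.comap (sec φ).toRingHom).comap (algebraMap R (R ⊗[A] B)) = p := by
      rw [Ideal.comap_comap]
      convert Ideal.comap_id p
      exact RingHom.ext fun r => (sec φ).commutes r
    haveI : (p.comap (sec φ).toRingHom).IsPrime := Ideal.comap_isPrime _ _
    exact GenPts.exists_smul_eq_zero R (R ⊗[A] B) η q p hηp rfl hmin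
      (fun h => hu (hmin _ inferInstance hQ h)) huz
  have hann : (Submodule.span (R ⊗[A] B) {z}).annihilator = ⊤ := by
    by_contra hne
    obtain ⟨m, hm, hle⟩ := Ideal.exists_le_maximal _ hne
    obtain ⟨s, hs, hsz⟩ := hkill m hm.isPrime
    exact hs (hle ((Submodule.mem_annihilator_span_singleton z s).2 hsz))
  rwa [Submodule.annihilator_eq_top_iff, Submodule.span_singleton_eq_bot] at hann

/-- The content ideal: `s` vanishes after a base change exactly when the ideal does. -/
theorem exists_content {A B : Type u} [CommRing A] [CommRing B] [Algebra A B] {d : ℕ}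
    [Algebra (MvPolynomial (Fin d) A) B] [IsScalarTower A (MvPolynomial (Fin d) A) B]
    [Algebra.Etale (MvPolynomial (Fin d) A) B] [Algebra.Smooth A B] [Module.FaithfullyFlat A B]
    (hirr : ∀ (K : Type u) [Field K] [Algebra A K], PreirreducibleSpace (PrimeSpectrum (K ⊗[A] B))) (s : B) : ∃ J : Ideal A, J.FG ∧ ∀ (A' : Type u) [CommRing A'] [Algebra A A'],
    (1 : A') ⊗ₜ[A] s = 0 ↔ J ≤ RingHom.ker (algebraMap A A') := by
  classical
  let φ₀ : B →ₐ[A] B := AlgHom.id A B
  letI iC : Algebra (MvPolynomial (Fin d) B) (B ⊗[A] B) := (coordHom (d := d) φ₀).toAlgebra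
  haveI : IsScalarTower B (MvPolynomial (Fin d) B) (B ⊗[A] B) :=
    IsScalarTower.of_algebraMap_eq fun r => (coordHom_C φ₀ r).symm
  haveI : Algebra.Etale (MvPolynomial (Fin d) B) (B ⊗[A] B) :=
    RingHom.etale_algebraMap.1 (etale_coordHom φ₀)
  choose T hT using fun n => exists_isExp (d := d) (sec φ₀) (fun i => sec_coord φ₀ i) n
  choose P hP using fun n => Ideal.Quotient.mk_surjective (T n ((1 : B) ⊗ₜ[A] s))
  let JB : Ideal B := Ideal.span {b | ∃ (n : ℕ) (x : Fin d →₀ ℕ), Finsupp.degree x < n ∧ (P n).coeff x = b}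
  -- the key property
  have key : ∀ {R : Type u} [CommRing R] [Algebra A R] (φ : B →ₐ[A] R),
      (1 : R) ⊗ₜ[A] s = 0 ↔ JB ≤ RingHom.ker φ.toRingHom := by
    intro R _ _ φ
    letI iR : Algebra (MvPolynomial (Fin d) R) (R ⊗[A] B) := (coordHom (d := d) φ).toAlgebra
    haveI : IsScalarTower R (MvPolynomial (Fin d) R) (R ⊗[A] B) :=
      IsScalarTower.of_algebraMap_eq fun r => (coordHom_C φ r).symm
    haveI : Algebra.Etale (MvPolynomial (Fin d) R) (R ⊗[A] B) :=
      RingHom.etale_algebraMap.1 (etale_coordHom φ)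
    let π : B ⊗[A] B →+* R ⊗[A] B := (Algebra.TensorProduct.map φ (AlgHom.id A B)).toRingHom
    have hπ : ∀ q, π (algebraMap (MvPolynomial (Fin d) B) (B ⊗[A] B) q) =
        algebraMap (MvPolynomial (Fin d) R) (R ⊗[A] B) (MvPolynomial.map φ.toRingHom q) := by
      intro q
      show π (coordHom (d := d) φ₀ q) = coordHom (d := d) φ (MvPolynomial.map φ.toRingHom q)
      induction q using MvPolynomial.induction_on with
      | C b => simp [coordHom_C, π, Algebra.TensorProduct.algebraMap_apply]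
      | add a b ha hb => simp only [map_add, ha, hb]
      | mul_X a i ha =>
        simp only [map_mul, ha, map_X]
        congr 1
        simp [coordHom, π, φ₀, Algebra.TensorProduct.algebraMap_apply]
    have hσ : ∀ c, sec φ (π c) = φ.toRingHom (sec φ₀ c) := fun c => by
      induction c using TensorProduct.induction_on with
      | zero => simp
      | tmul a b => simp [π, sec_tmul, φ₀]
      | add a b ha hb => simp only [map_add, ha, hb]
    have hs : π ((1 : B) ⊗ₜ[A] s) = (1 : R) ⊗ₜ[A] s := by simp [π]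
    have hcoef : ∀ n, ∀ TR : R ⊗[A] B →ₐ[MvPolynomial (Fin d) R] Pn d R n, IsExp (sec φ) n TR →
        (TR ((1 : R) ⊗ₜ[A] s) = 0 ↔ ∀ x, Finsupp.degree x < n → φ ((P n).coeff x) = 0) := by
      intro n TR hTR
      rw [← hs, isExp_natural (sec φ₀) (sec φ) φ.toRingHom π hπ hσ (hT n) hTR, ← hP n,
        Ideal.quotientMap_mk, Ideal.Quotient.eq_zero_iff_mem, mem_pow_idealOfVars_iff']
      simp only [coeff_map]
      rfl
    refine ⟨fun h => Ideal.span_le.2 ?_, fun h => eq_zero_of_exp (d := d) hirr φ rfl fun n TR hTR => ?_⟩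
    · rintro _ ⟨n, x, hx, rfl⟩
      obtain ⟨TR, hTR⟩ := exists_isExp (d := d) (sec φ) (fun i => sec_coord φ i) n
      exact (hcoef n TR hTR).1 (by rw [h, map_zero]) x hx
    · exact (hcoef n TR hTR).2 fun x hx => h (Ideal.subset_span ⟨n, x, hx, rfl⟩)
  -- descent
  let J : Ideal A := JB.comap (algebraMap A B)
  have hJB : JB ≤ J.map (algebraMap A B) := by
    intro j hj
    let φ₁ : B →ₐ[A] B ⊗[A] B := Algebra.TensorProduct.includeLeft
    let φ₂ : B →ₐ[A] B ⊗[A] B := Algebra.TensorProduct.includeRight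
    let K : Ideal (B ⊗[A] B) := JB.map φ₁.toRingHom
    let mk := Ideal.Quotient.mkₐ A K
    have h1 : (1 : (B ⊗[A] B) ⧸ K) ⊗ₜ[A] s = 0 :=
      (key (mk.comp φ₁)).2 fun b hb => Ideal.Quotient.eq_zero_iff_mem.2 (Ideal.mem_map_of_mem _ hb)
    have h2 : φ₂ j ∈ K := Ideal.Quotient.eq_zero_iff_mem.1 ((key (mk.comp φ₂)).1 h1 hj)
    -- `B / J B` injects into `(B / J_B) ⊗ B`
    let ι : A ⧸ J →ₗ[A] B ⧸ JB :=
      (Ideal.quotientMapₐ JB (Algebra.ofId A B) le_rfl).toLinearMap
    have hι : Function.Injective ι := Ideal.quotientMap_injective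
    have h3 := Module.Flat.rTensor_preserves_injective_linearMap (M := B) ι hι
    have h4 : ∀ z ∈ K, (Algebra.TensorProduct.map (Ideal.Quotient.mkₐ A JB) (AlgHom.id A B)) z = 0 := by
      intro z hz
      have hle : K ≤ RingHom.ker (Algebra.TensorProduct.map (Ideal.Quotient.mkₐ A JB) (AlgHom.id A B)).toRingHom := by
        refine Ideal.map_le_iff_le_comap.2 fun b hb => ?_
        show (Algebra.TensorProduct.map (Ideal.Quotient.mkₐ A JB) (AlgHom.id A B)) (b ⊗ₜ[A] 1) = 0
        rw [Algebra.TensorProduct.map_tmul, show Ideal.Quotient.mkₐ A JB b = 0 from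
          Ideal.Quotient.eq_zero_iff_mem.2 hb, TensorProduct.zero_tmul]
      exact hle hz
    have h5 : ((1 : A ⧸ J) ⊗ₜ[A] j : (A ⧸ J) ⊗[A] B) = 0 := by
      refine h3 ?_
      rw [map_zero, LinearMap.rTensor_tmul]
      have h6 := h4 _ h2
      simp only [φ₂, Algebra.TensorProduct.includeRight_apply, Algebra.TensorProduct.map_tmul, map_one,
        AlgHom.coe_id, id_eq] at h6
      rw [show ι 1 = 1 from map_one (Ideal.quotientMapₐ JB (Algebra.ofId A B) le_rfl)]
      exact h6
    have h7 := congrArg (TensorProduct.quotTensorEquivQuotSMul B J) h5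
    rw [map_zero, ← map_one (Ideal.Quotient.mk J), TensorProduct.quotTensorEquivQuotSMul_mk_tmul, one_smul,
      Submodule.Quotient.mk_eq_zero, Ideal.smul_top_eq_map, Submodule.restrictScalars_mem] at h7
    exact h7
  have hprop : ∀ (A' : Type u) [CommRing A'] [Algebra A A'],
      (1 : A') ⊗ₜ[A] s = 0 ↔ J ≤ RingHom.ker (algebraMap A A') := by
    intro A' _ _
    let φ : B →ₐ[A] A' ⊗[A] B := Algebra.TensorProduct.includeRight
    let il : A' →ₐ[A] A' ⊗[A] B := Algebra.TensorProduct.includeLeft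
    have hil' : Function.Injective il := by
      intro a b hab
      have := (Module.FaithfullyFlat.tensorProduct_mk_injective (A := A) (B := B) A')
      exact this (by simpa [il] using congrArg (TensorProduct.comm A A' B) hab)
    constructor
    · intro h a ha
      have h1 : (1 : A' ⊗[A] B) ⊗ₜ[A] s = 0 := by
        have := congrArg (Algebra.TensorProduct.map il (AlgHom.id A B)) h
        simpa using this
      have h2 : φ (algebraMap A B a) = 0 := (key φ).1 h1 ha
      rw [AlgHom.commutes, IsScalarTower.algebraMap_apply A A' (A' ⊗[A] B)] at h2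
      exact hil' (h2.trans (map_zero il).symm)
    · intro h
      have h1 : (1 : A' ⊗[A] B) ⊗ₜ[A] s = 0 := by
        refine (key φ).2 (hJB.trans (Ideal.map_le_iff_le_comap.2 fun a ha => ?_))
        show φ (algebraMap A B a) = 0
        rw [AlgHom.commutes, IsScalarTower.algebraMap_apply A A' (A' ⊗[A] B), show algebraMap A A' a = 0 from h ha,
          map_zero]
      have h3 := Module.Flat.rTensor_preserves_injective_linearMap (M := B) il.toLinearMap hil'
      refine h3 ?_
      rw [map_zero, LinearMap.rTensor_tmul, show il.toLinearMap 1 = 1 from map_one il]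
      exact h1
  refine ⟨J, ?_, hprop⟩
  have hs0 : s ∈ J.map (algebraMap A B) := by
    have h := (hprop (A ⧸ J)).2 (by rw [Ideal.Quotient.algebraMap_eq, Ideal.mk_ker])
    have h7 := congrArg (TensorProduct.quotTensorEquivQuotSMul B J) h
    rw [map_zero, ← map_one (Ideal.Quotient.mk J), TensorProduct.quotTensorEquivQuotSMul_mk_tmul, one_smul,
      Submodule.Quotient.mk_eq_zero, Ideal.smul_top_eq_map, Submodule.restrictScalars_mem] at h7
    exact h7
  obtain ⟨G, hG, hsG⟩ := Submodule.mem_span_finite_of_mem_span (show s ∈ Submodule.span B (algebraMap A B '' (J : Set A)) from hs0)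
  choose! g hg hge using fun b (hb : b ∈ G) => hG hb
  refine ⟨G.image g, le_antisymm (Ideal.span_le.2 fun a ha => ?_) ?_⟩
  · obtain ⟨b, hb, rfl⟩ := Finset.mem_image.1 ha
    exact hg b hb
  · have := (hprop (A ⧸ Ideal.span (G.image g : Set A))).1 ?_
    · rwa [Ideal.Quotient.algebraMap_eq, Ideal.mk_ker] at this
    refine (TensorProduct.quotTensorEquivQuotSMul B (Ideal.span (G.image g : Set A))).injective ?_
    rw [map_zero, ← map_one (Ideal.Quotient.mk _), TensorProduct.quotTensorEquivQuotSMul_mk_tmul, one_smul,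
      Submodule.Quotient.mk_eq_zero, Ideal.smul_top_eq_map, Submodule.restrictScalars_mem]
    refine (Submodule.span_le.2 fun b hb => ?_) hsG
    rw [← hge b hb]
    exact Ideal.mem_map_of_mem _ (Ideal.subset_span (Finset.mem_image_of_mem _ hb))

end Groth.Agent.H4BC.Content
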