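import Mathlib

/-!
Taylor expansions along a section of an algebra etale over a polynomial ring, and the vanishing of
elements all of whose expansions vanish.
-/

set_option autoImplicit false
set_option linter.style.haveILetI false

universe u

open MvPolynomial
open scoped TensorProduct

namespace Groth.Agent.H4BC.Content

/-- The polynomials modulo degree `n`. -/
abbrev Pn (d : ℕ) (R : Type u) [CommRing R] (n : ℕ) : Type u :=
  MvPolynomial (Fin d) R ⧸ (idealOfVars (Fin d) R) ^ n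

theorem sub_C_constantCoeff_mem {d : ℕ} {R : Type u} [CommRing R] (p : MvPolynomial (Fin d) R) :
    p - C (constantCoeff p) ∈ idealOfVars (Fin d) R := by
  rw [← pow_one (idealOfVars (Fin d) R), mem_pow_idealOfVars_iff']
  intro x hx
  have hx0 : x = 0 := (Finsupp.degree_eq_zero_iff x).1 (Nat.lt_one_iff.1 hx)
  subst hx0
  simp [constantCoeff_eq]

theorem constantCoeff_eq_zero_of_mem {d : ℕ} {R : Type u} [CommRing R] {p : MvPolynomial (Fin d) R}
    (hp : p ∈ idealOfVars (Fin d) R) : constantCoeff p = 0 := by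
  rw [← pow_one (idealOfVars (Fin d) R), mem_pow_idealOfVars_iff'] at hp
  rw [constantCoeff_eq]
  exact hp 0 (by simp)

/-- Coefficients below degree `n` separate polynomials modulo degree `n`. -/
theorem map_Pn_injective {d : ℕ} {R₀ R : Type u} [CommRing R₀] [CommRing R] (ι : R₀ →+* R)
    (hι : Function.Injective ι) (n : ℕ)
    (h : (idealOfVars (Fin d) R₀) ^ n ≤ ((idealOfVars (Fin d) R) ^ n).comap (MvPolynomial.map ι)) :
    Function.Injective (Ideal.quotientMap ((idealOfVars (Fin d) R) ^ n) (MvPolynomial.map ι) h) := by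
  refine Ideal.quotientMap_injective' fun p hp => ?_
  rw [Ideal.mem_comap, mem_pow_idealOfVars_iff'] at hp
  rw [mem_pow_idealOfVars_iff']
  intro x hx
  exact hι (by rw [map_zero, ← coeff_map]; exact hp x hx)

theorem pow_le_comap_map {d : ℕ} {R₀ R : Type u} [CommRing R₀] [CommRing R] (ι : R₀ →+* R) (n : ℕ) :
    (idealOfVars (Fin d) R₀) ^ n ≤ ((idealOfVars (Fin d) R) ^ n).comap (MvPolynomial.map ι) := by
  intro p hp
  rw [mem_pow_idealOfVars_iff'] at hp
  rw [Ideal.mem_comap, mem_pow_idealOfVars_iff']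
  intro x hx
  rw [coeff_map, hp x hx, map_zero]

section

variable {d : ℕ} {R C : Type u} [CommRing R] [CommRing C] [Algebra R C]
  [Algebra (MvPolynomial (Fin d) R) C] [IsScalarTower R (MvPolynomial (Fin d) R) C]
  (σ : C →ₐ[R] R)

/-- `T` is a Taylor expansion to order `< n` along `σ`. -/
def IsExp (n : ℕ) (T : C →ₐ[MvPolynomial (Fin d) R] Pn d R n) : Prop :=
  ∀ c, T c - Ideal.Quotient.mk _ (MvPolynomial.C (σ c)) ∈
    (idealOfVars (Fin d) R).map (Ideal.Quotient.mk ((idealOfVars (Fin d) R) ^ n))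

theorem isNilpotent_map (n : ℕ) :
    IsNilpotent ((idealOfVars (Fin d) R).map (Ideal.Quotient.mk ((idealOfVars (Fin d) R) ^ n))) :=
  ⟨n, by rw [← Ideal.map_pow, Ideal.map_quotient_self]; rfl⟩

theorem apply_algebraMap (hσ : ∀ i, σ (algebraMap (MvPolynomial (Fin d) R) C (X i)) = 0)
    (p : MvPolynomial (Fin d) R) : σ (algebraMap (MvPolynomial (Fin d) R) C p) = constantCoeff p := by
  induction p using MvPolynomial.induction_on with
  | C a =>
    rw [show (MvPolynomial.C a : MvPolynomial (Fin d) R) = algebraMap R _ a from rfl,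
      ← IsScalarTower.algebraMap_apply, AlgHom.commutes, Algebra.algebraMap_self, RingHom.id_apply,
      MvPolynomial.algebraMap_eq, constantCoeff_C]
  | add a b ha hb => simp [map_add, ha, hb]
  | mul_X a i _ => simp [map_mul, hσ]

theorem exists_isExp [Algebra.FormallySmooth (MvPolynomial (Fin d) R) C]
    (hσ : ∀ i, σ (algebraMap (MvPolynomial (Fin d) R) C (X i)) = 0) (n : ℕ) :
    ∃ T : C →ₐ[MvPolynomial (Fin d) R] Pn d R n, IsExp σ n T := by
  let I := (idealOfVars (Fin d) R).map (Ideal.Quotient.mk ((idealOfVars (Fin d) R) ^ n))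
  let g : C →ₐ[MvPolynomial (Fin d) R] Pn d R n ⧸ I :=
    { ((Ideal.Quotient.mk I).comp (Ideal.Quotient.mk _)).comp (MvPolynomial.C.comp σ.toRingHom) with
      commutes' := fun p => by
        show Ideal.Quotient.mk I (Ideal.Quotient.mk _ (MvPolynomial.C (σ (algebraMap _ C p)))) =
          Ideal.Quotient.mk I (Ideal.Quotient.mk _ p)
        rw [apply_algebraMap σ hσ, eq_comm, Ideal.Quotient.mk_eq_mk_iff_sub_mem, ← map_sub]
        exact Ideal.mem_map_of_mem _ (sub_C_constantCoeff_mem p) }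
  refine ⟨Algebra.FormallySmooth.lift I (isNilpotent_map n) g, fun c => ?_⟩
  rw [← Ideal.Quotient.mk_eq_mk_iff_sub_mem, Algebra.FormallySmooth.mk_lift]
  rfl

theorem isExp_unique [Algebra.FormallyUnramified (MvPolynomial (Fin d) R) C] {n : ℕ}
    {T T' : C →ₐ[MvPolynomial (Fin d) R] Pn d R n} (h : IsExp σ n T) (h' : IsExp σ n T') : T = T' :=
  Algebra.FormallyUnramified.ext _ (isNilpotent_map n) fun c =>
    ((Ideal.Quotient.mk_eq_mk_iff_sub_mem _ _).2 (h c)).trans
      ((Ideal.Quotient.mk_eq_mk_iff_sub_mem _ _).2 (h' c)).symm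

theorem isExp_algebraMap {n : ℕ} {T : C →ₐ[MvPolynomial (Fin d) R] Pn d R n} (h : IsExp σ n T) (hn : 0 < n)
    {c : C} (hc : T c = 1) : σ c = 1 := by
  have h1 := h c
  rw [hc, ← map_one (Ideal.Quotient.mk ((idealOfVars (Fin d) R) ^ n)), ← map_sub,
    Ideal.mem_map_iff_of_surjective _ Ideal.Quotient.mk_surjective] at h1
  obtain ⟨q, hq, hqe⟩ := h1
  rw [Ideal.Quotient.mk_eq_mk_iff_sub_mem] at hqe
  have h2 : q - (1 - MvPolynomial.C (σ c)) ∈ idealOfVars (Fin d) R := Ideal.pow_le_self hn.ne' hqe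
  have h3 := constantCoeff_eq_zero_of_mem h2
  rw [map_sub, map_sub, constantCoeff_eq_zero_of_mem hq, map_one, constantCoeff_C, zero_sub, neg_sub,
    sub_eq_zero] at h3
  exact h3

/-- An element with vanishing expansion lies in the ideal of the coordinates near the section. -/
theorem exists_mul_mem [Algebra.FormallyUnramified (MvPolynomial (Fin d) R) C]
    [Algebra.FiniteType (MvPolynomial (Fin d) R) C] {n : ℕ} (hn : 0 < n)
    {T : C →ₐ[MvPolynomial (Fin d) R] Pn d R n} (h : IsExp σ n T) {s : C} (hs : T s = 0) :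
    ∃ e : C, σ e = 1 ∧ e * s ∈ ((idealOfVars (Fin d) R).map (algebraMap (MvPolynomial (Fin d) R) C)) ^ n := by
  classical
  let P := MvPolynomial (Fin d) R
  let J := ((idealOfVars (Fin d) R).map (algebraMap P C)) ^ n
  have hJ : J ≤ RingHom.ker T := by
    show _ ^ n ≤ _
    rw [← Ideal.map_pow, Ideal.map_le_iff_le_comap]
    intro p hp
    show T (algebraMap P C p) = 0
    rw [AlgHom.commutes]
    exact Ideal.Quotient.eq_zero_iff_mem.2 hp
  let T' : C ⧸ J →ₐ[P] Pn d R n := Ideal.Quotient.liftₐ J T fun a ha => hJ ha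
  let K : Ideal (C ⧸ J) := RingHom.ker T'
  have hmap : ∀ p ∈ (idealOfVars (Fin d) R) ^ n, algebraMap P (C ⧸ J) p = 0 := fun p hp => by
    rw [IsScalarTower.algebraMap_apply P C (C ⧸ J)]
    refine Ideal.Quotient.eq_zero_iff_mem.2 ?_
    show _ ∈ _ ^ n
    rw [← Ideal.map_pow]
    exact Ideal.mem_map_of_mem _ hp
  let sec : Pn d R n →ₐ[P] C ⧸ J := Ideal.Quotient.liftₐ _ (Algebra.ofId P (C ⧸ J)) hmap
  have hTsec : ∀ y, T' (sec y) = y := fun y => by
    obtain ⟨p, rfl⟩ := Ideal.Quotient.mk_surjective y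
    show T' (algebraMap P (C ⧸ J) p) = _
    exact AlgHom.commutes _ _
  have hdiff : ∀ c, c - sec (T' c) ∈ K := fun c => by
    show T' (c - sec (T' c)) = 0
    rw [map_sub, hTsec, sub_self]
  -- `K` is finitely generated
  obtain ⟨G, hG⟩ := (Algebra.FiniteType.out : (⊤ : Subalgebra P (C ⧸ J)).FG)
  have hKfg : K = Ideal.span (G.image fun c => c - sec (T' c) : Finset (C ⧸ J)) := by
    refine le_antisymm (fun k hk => ?_) (Ideal.span_le.2 fun c hc => ?_)
    · let K' : Ideal (C ⧸ J) := Ideal.span (G.image fun c => c - sec (T' c) : Finset (C ⧸ J))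
      have hall : (Ideal.Quotient.mkₐ P K') = (Ideal.Quotient.mkₐ P K').comp (sec.comp T') := by
        refine AlgHom.ext_of_adjoin_eq_top hG fun c hc => ?_
        show Ideal.Quotient.mk K' c = Ideal.Quotient.mk K' (sec (T' c))
        rw [Ideal.Quotient.mk_eq_mk_iff_sub_mem]
        exact Ideal.subset_span (Finset.mem_image_of_mem _ hc)
      refine Ideal.Quotient.eq_zero_iff_mem.1 ?_
      have := AlgHom.congr_fun hall k
      simp only [AlgHom.coe_comp, Function.comp_apply, show T' k = 0 from hk, map_zero] at this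
      exact this
    · obtain ⟨c, -, rfl⟩ := Finset.mem_image.1 hc
      exact hdiff c
  haveI : Algebra.FormallyUnramified P (C ⧸ J) := inferInstance
  have hidem : K ≤ K * K := by
    intro k hk
    have hsq : IsNilpotent (K.map (Ideal.Quotient.mk (K * K))) :=
      ⟨2, by rw [← Ideal.map_pow, pow_two, Ideal.map_quotient_self]; rfl⟩
    have heq : Ideal.Quotient.mkₐ P (K * K) = (Ideal.Quotient.mkₐ P (K * K)).comp (sec.comp T') := by
      refine Algebra.FormallyUnramified.ext _ hsq fun c => ?_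
      rw [Ideal.Quotient.mk_eq_mk_iff_sub_mem]
      show Ideal.Quotient.mk (K * K) c - Ideal.Quotient.mk (K * K) (sec (T' c)) ∈ _
      rw [← map_sub]
      exact Ideal.mem_map_of_mem _ (hdiff c)
    refine Ideal.Quotient.eq_zero_iff_mem.1 ?_
    have := AlgHom.congr_fun heq k
    simp only [AlgHom.coe_comp, Function.comp_apply, show T' k = 0 from hk, map_zero] at this
    exact this
  obtain ⟨r, hr1, hr2⟩ := Submodule.exists_sub_one_mem_and_smul_eq_zero_of_fg_of_le_smul K K
    (hKfg ▸ ⟨_, rfl⟩) hidem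
  obtain ⟨e, rfl⟩ := Ideal.Quotient.mk_surjective r
  refine ⟨e, isExp_algebraMap σ h hn (sub_eq_zero.1 ?_), Ideal.Quotient.eq_zero_iff_mem.1 ?_⟩
  · have : T' (Ideal.Quotient.mk J e - 1) = 0 := hr1
    rwa [map_sub, map_one] at this
  · rw [map_mul]
    exact hr2 (Ideal.Quotient.mk J s) hs

theorem exists_mul_eq_zero_of_noetherian [IsNoetherianRing R] [Algebra.Etale (MvPolynomial (Fin d) R) C]
    (hσ : ∀ i, σ (algebraMap (MvPolynomial (Fin d) R) C (X i)) = 0) {s : C}
    (hs : ∀ n, ∀ T : C →ₐ[MvPolynomial (Fin d) R] Pn d R n, IsExp σ n T → T s = 0) (p : Ideal R) [p.IsPrime] :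
    ∃ u, σ u ∉ p ∧ u * s = 0 := by
  haveI : IsNoetherianRing C := Algebra.FiniteType.isNoetherianRing (MvPolynomial (Fin d) R) C
  let Q : Ideal C := p.comap σ.toRingHom
  haveI : Q.IsPrime := Ideal.comap_isPrime _ _
  let CQ := Localization.AtPrime Q
  have hm : ∀ n, algebraMap C CQ s ∈ IsLocalRing.maximalIdeal CQ ^ n := by
    intro n
    obtain ⟨T, hT⟩ := exists_isExp σ hσ (n + 1)
    obtain ⟨e, he, hes⟩ := exists_mul_mem σ (Nat.succ_pos n) hT (hs _ T hT)
    have hu : IsUnit (algebraMap C CQ e) :=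
      IsLocalization.map_units CQ (⟨e, show σ e ∉ p by rw [he]; exact fun h => ‹p.IsPrime›.ne_top ((Ideal.eq_top_iff_one _).2 h)⟩ : Q.primeCompl)
    rw [← Ideal.unit_mul_mem_iff_mem _ hu, ← map_mul]
    refine Ideal.pow_le_pow_right n.le_succ ?_
    rw [← Localization.AtPrime.map_eq_maximalIdeal, ← Ideal.map_pow]
    refine Ideal.mem_map_of_mem _ (Ideal.pow_right_mono (Ideal.map_le_iff_le_comap.2 fun q hq => ?_) _ hes)
    show σ (algebraMap _ C q) ∈ p
    rw [apply_algebraMap σ hσ, constantCoeff_eq_zero_of_mem hq]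
    exact zero_mem p
  have h0 : algebraMap C CQ s = 0 := by
    have : algebraMap C CQ s ∈ ⨅ n, IsLocalRing.maximalIdeal CQ ^ n := Ideal.mem_iInf.2 hm
    rw [Ideal.iInf_pow_eq_bot_of_isLocalRing _ (IsLocalRing.maximalIdeal.isMaximal CQ).ne_top] at this
    exact this
  obtain ⟨u, hu⟩ := (IsLocalization.map_eq_zero_iff Q.primeCompl CQ s).1 h0
  exact ⟨u, u.2, hu⟩

end

/-- An element with vanishing expansions is killed near the section. -/
theorem exists_mul_eq_zero {d : ℕ} {R C : Type u} [CommRing R] [CommRing C] [Algebra R C]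
    [Algebra (MvPolynomial (Fin d) R) C] [IsScalarTower R (MvPolynomial (Fin d) R) C]
    [Algebra.Etale (MvPolynomial (Fin d) R) C] (σ : C →ₐ[R] R)
    (hσ : ∀ i, σ (algebraMap (MvPolynomial (Fin d) R) C (X i)) = 0) {s : C}
    (hs : ∀ n, ∀ T : C →ₐ[MvPolynomial (Fin d) R] Pn d R n, IsExp σ n T → T s = 0) (p : Ideal R) [p.IsPrime] :
    ∃ u, σ u ∉ p ∧ u * s = 0 := by
  classical
  obtain ⟨A₀, B₀, _, _, hA₀, hB₀, ⟨e⟩⟩ := Algebra.Etale.exists_subalgebra_fg ℤ (MvPolynomial (Fin d) R) C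
  haveI : Algebra.Etale A₀ B₀ := hB₀
  obtain ⟨t, ht⟩ := TensorProduct.exists_finset (e s)
  obtain ⟨G, hG⟩ := (Algebra.FiniteType.out : (⊤ : Subalgebra A₀ B₀).FG)
  obtain ⟨F, hF⟩ := hA₀
  let cs : Finset R := (F ∪ t.image Prod.fst).biUnion MvPolynomial.coeffs ∪
    G.image fun b => σ (e.symm (1 ⊗ₜ[A₀] b))
  let R₀ : Subalgebra ℤ R := Algebra.adjoin ℤ (cs : Set R)
  haveI : Algebra.FiniteType ℤ R₀ := (Subalgebra.fg_iff_finiteType R₀).1 (Subalgebra.fg_adjoin_finset _)
  haveI : IsNoetherianRing R₀ := Algebra.FiniteType.isNoetherianRing ℤ R₀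
  let ι : R₀ →+* R := R₀.val.toRingHom
  let μ : MvPolynomial (Fin d) R₀ →+* MvPolynomial (Fin d) R := MvPolynomial.map ι
  have hμ : Function.Injective μ := MvPolynomial.map_injective ι Subtype.val_injective
  have hrange : ∀ q : MvPolynomial (Fin d) R, q.coeffs ⊆ cs → q ∈ μ.range := fun q hq =>
    MvPolynomial.mem_range_map_iff_coeffs_subset.2 fun x hx => ⟨⟨x, Algebra.subset_adjoin (hq hx)⟩, rfl⟩
  let Q₀ : Subalgebra ℤ (MvPolynomial (Fin d) R) :=
    { μ.range.toSubsemiring with algebraMap_mem' := fun z => ⟨algebraMap ℤ _ z, by simp⟩ }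
  have hle : A₀ ≤ Q₀ := by
    rw [← hF]
    exact Algebra.adjoin_le fun q hq => hrange q fun x hx =>
      Finset.mem_union_left _ (Finset.mem_biUnion.2 ⟨q, Finset.mem_union_left _ hq, hx⟩)
  choose lift hlift using fun a : A₀ => hle a.2
  let j : A₀ →+* MvPolynomial (Fin d) R₀ :=
    { toFun := lift
      map_one' := hμ ((hlift 1).trans (map_one μ).symm)
      map_mul' := fun a b => hμ ((hlift _).trans (by rw [map_mul, hlift, hlift]; rfl))
      map_zero' := hμ ((hlift 0).trans (map_zero μ).symm)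
      map_add' := fun a b => hμ ((hlift _).trans (by rw [map_add, hlift, hlift]; rfl)) }
  have hj : ∀ a, μ (j a) = a.1 := hlift
  letI : Algebra A₀ (MvPolynomial (Fin d) R₀) := j.toAlgebra
  let C₀ := MvPolynomial (Fin d) R₀ ⊗[A₀] B₀
  haveI : Algebra.Etale (MvPolynomial (Fin d) R₀) C₀ := inferInstance
  let μA : MvPolynomial (Fin d) R₀ →ₐ[A₀] MvPolynomial (Fin d) R :=
    { μ with commutes' := fun a => hj a }
  let π' : C₀ →ₐ[A₀] MvPolynomial (Fin d) R ⊗[A₀] B₀ :=
    Algebra.TensorProduct.map μA (AlgHom.id A₀ B₀)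
  let π : C₀ →+* C := (e.symm.toAlgHom.toRingHom).comp π'.toRingHom
  have hπt : ∀ q b, π (q ⊗ₜ[A₀] b) = e.symm ((μ q) ⊗ₜ[A₀] b) := fun q b => rfl
  have hπP : ∀ q, π (algebraMap (MvPolynomial (Fin d) R₀) C₀ q) = algebraMap _ C (μ q) := fun q => by
    rw [Algebra.TensorProduct.algebraMap_apply, Algebra.algebraMap_self, RingHom.id_apply, hπt,
      ← AlgEquiv.commutes e.symm]
    rfl
  -- the section descends
  have hmem : ∀ c, σ (π c) ∈ R₀ := by
    have hB : ∀ b : B₀, σ (e.symm (1 ⊗ₜ[A₀] b)) ∈ R₀ := by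
      intro b
      have hb : b ∈ Algebra.adjoin A₀ (G : Set B₀) := hG ▸ trivial
      induction hb using Algebra.adjoin_induction with
      | mem b hb => exact Algebra.subset_adjoin (Finset.mem_union_right _ (Finset.mem_image_of_mem _ hb))
      | algebraMap a =>
        rw [show (1 : MvPolynomial (Fin d) R) ⊗ₜ[A₀] algebraMap A₀ B₀ a = (μ (j a)) ⊗ₜ[A₀] 1 by
            rw [Algebra.algebraMap_eq_smul_one, ← TensorProduct.smul_tmul, hj]
            rw [show a • (1 : MvPolynomial (Fin d) R) = a.1 from mul_one a.1],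
          show e.symm ((μ (j a)) ⊗ₜ[A₀] 1) = algebraMap _ C (μ (j a)) from AlgEquiv.commutes e.symm _,
          apply_algebraMap σ hσ, show constantCoeff (μ (j a)) = ι (constantCoeff (j a)) from constantCoeff_map _ _]
        exact (constantCoeff (j a)).2
      | add x y _ _ hx hy => rw [TensorProduct.tmul_add, map_add, map_add]; exact add_mem hx hy
      | mul x y _ _ hx hy =>
        rw [show (1 : MvPolynomial (Fin d) R) ⊗ₜ[A₀] (x * y) = (1 ⊗ₜ[A₀] x) * (1 ⊗ₜ[A₀] y) by
          rw [Algebra.TensorProduct.tmul_mul_tmul, one_mul], map_mul, map_mul]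
        exact mul_mem hx hy
    intro c
    induction c using TensorProduct.induction_on with
    | zero => rw [map_zero, map_zero]; exact zero_mem _
    | tmul q b =>
      rw [hπt, show (μ q) ⊗ₜ[A₀] b = algebraMap _ (MvPolynomial (Fin d) R ⊗[A₀] B₀) (μ q) * (1 ⊗ₜ[A₀] b) by
        rw [Algebra.TensorProduct.algebraMap_apply, Algebra.TensorProduct.tmul_mul_tmul, mul_one, one_mul,
          Algebra.algebraMap_self, RingHom.id_apply], map_mul, map_mul, AlgEquiv.commutes,
        apply_algebraMap σ hσ, show constantCoeff (μ q) = ι (constantCoeff q) from constantCoeff_map _ _]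
      exact mul_mem (constantCoeff q).2 (hB b)
    | add x y hx hy => rw [map_add, map_add]; exact add_mem hx hy
  let σ₀ : C₀ →ₐ[R₀] R₀ :=
    { (σ.toRingHom.comp π).codRestrict R₀ hmem with
      commutes' := fun r => Subtype.ext (by
        show σ (π (algebraMap (MvPolynomial (Fin d) R₀) C₀ (MvPolynomial.C r))) = r.1
        rw [hπP, apply_algebraMap σ hσ, show μ (MvPolynomial.C r) = MvPolynomial.C (ι r) from map_C _ _,
          constantCoeff_C]
        rfl) }
  have hσ₀ : ∀ i, σ₀ (algebraMap (MvPolynomial (Fin d) R₀) C₀ (X i)) = 0 := fun i => Subtype.ext (by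
    show σ (π (algebraMap (MvPolynomial (Fin d) R₀) C₀ (X i))) = 0
    rw [hπP, show μ (X i) = X i from map_X _ _]
    exact hσ i)
  -- the element descends
  obtain ⟨s₀, hs₀⟩ : ∃ s₀, π s₀ = s := by
    have hq : ∀ x ∈ t, ∃ q, μ q = x.1 := fun x hx => hrange x.1 fun y hy =>
      Finset.mem_union_left _ (Finset.mem_biUnion.2 ⟨x.1, Finset.mem_union_right _ (Finset.mem_image_of_mem _ hx), hy⟩)
    choose! q hq using hq
    refine ⟨∑ x ∈ t, q x ⊗ₜ[A₀] x.2, e.injective ?_⟩
    rw [map_sum, map_sum, ht]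
    exact Finset.sum_congr rfl fun x hx => by rw [hπt, AlgEquiv.apply_symm_apply, hq x hx]
  have hs₀T : ∀ n, ∀ T₀ : C₀ →ₐ[MvPolynomial (Fin d) R₀] Pn d R₀ n, IsExp (d := d) (R := R₀) (C := C₀) σ₀ n T₀ → T₀ s₀ = 0 := by
    intro n T₀ hT₀
    obtain ⟨T, hT⟩ := exists_isExp σ hσ n
    let ρ := Ideal.quotientMap _ μ (pow_le_comap_map (d := d) ι n)
    letI : Algebra (MvPolynomial (Fin d) R₀) (Pn d R n) :=
      ((Ideal.Quotient.mk ((idealOfVars (Fin d) R) ^ n)).comp μ).toAlgebra
    let g₁ : C₀ →ₐ[MvPolynomial (Fin d) R₀] Pn d R n :=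
      { ρ.comp T₀.toRingHom with
        commutes' := fun q => by
          show ρ (T₀ (algebraMap _ C₀ q)) = Ideal.Quotient.mk _ (μ q)
          rw [AlgHom.commutes]
          rfl }
    let g₂ : C₀ →ₐ[MvPolynomial (Fin d) R₀] Pn d R n :=
      { T.toRingHom.comp π with
        commutes' := fun q => by
          show T (π (algebraMap _ C₀ q)) = Ideal.Quotient.mk _ (μ q)
          rw [hπP, AlgHom.commutes]
          rfl }
    have hg : g₁ = g₂ := by
      refine @Algebra.FormallyUnramified.ext (MvPolynomial (Fin d) R₀) _ C₀ _ _ (Pn d R n) _ _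
        ((idealOfVars (Fin d) R).map (Ideal.Quotient.mk ((idealOfVars (Fin d) R) ^ n))) inferInstance
        (isNilpotent_map (d := d) (R := R) n) g₁ g₂ fun c => ?_
      show Ideal.Quotient.mk ((idealOfVars (Fin d) R).map (Ideal.Quotient.mk ((idealOfVars (Fin d) R) ^ n))) (ρ (T₀ c)) = Ideal.Quotient.mk _ (T (π c))
      refine Eq.trans ((Ideal.Quotient.mk_eq_mk_iff_sub_mem (ρ (T₀ c))
          (Ideal.Quotient.mk _ (MvPolynomial.C (σ (π c))))).2 ?_)
        ((Ideal.Quotient.mk_eq_mk_iff_sub_mem _ _).2 (hT (π c))).symm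
      have h1 := Ideal.mem_map_of_mem ρ (hT₀ c)
      rw [map_sub, Ideal.map_map] at h1
      have h2 : ρ (Ideal.Quotient.mk _ (MvPolynomial.C (σ₀ c))) = Ideal.Quotient.mk _ (MvPolynomial.C (σ (π c))) := by
        show Ideal.Quotient.mk _ (μ (MvPolynomial.C (σ₀ c))) = _
        rw [show μ (MvPolynomial.C (σ₀ c)) = MvPolynomial.C (ι (σ₀ c)) from map_C _ _]
        rfl
      rw [h2] at h1
      refine (Ideal.map_le_iff_le_comap.2 fun q hq => ?_) h1
      show Ideal.Quotient.mk ((idealOfVars (Fin d) R) ^ n) (μ q) ∈ (idealOfVars (Fin d) R).map (Ideal.Quotient.mk ((idealOfVars (Fin d) R) ^ n))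
      refine Ideal.mem_map_of_mem _ ?_
      have := pow_le_comap_map (d := d) ι 1 (by rwa [pow_one])
      rwa [Ideal.mem_comap, pow_one] at this
    refine map_Pn_injective ι Subtype.val_injective n (pow_le_comap_map ι n) ?_
    show ρ (T₀ s₀) = ρ 0
    rw [map_zero, show ρ (T₀ s₀) = T (π s₀) from AlgHom.congr_fun hg s₀, hs₀]
    exact hs n T hT
  obtain ⟨u, hu, hus⟩ := exists_mul_eq_zero_of_noetherian (d := d) (R := R₀) (C := C₀) σ₀ hσ₀ hs₀T (p.comap ι)
  exact ⟨π u, hu, by rw [← hs₀, ← map_mul, hus, map_zero]⟩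

end Groth.Agent.H4BC.Content
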